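import Cfsg.Agent.H23.LB.Defs
import Cfsg.Agent.H17.LB.FIntB
import Cfsg.Agent.H723.Lb.Card
import Cfsg.Agent.H963.OneP.RankEq
import Cfsg.Agent.H855.LB.Lift
import Cfsg.Agent.H608.Lb.Cols

/-!
# S4879, the row `F₄(q)`, `p = 7`: the abstract part (helper23)

`le_rank` : one class of elements of order 7 in `G`, two in the normal subgroup `N` of index 2, the stabilizer of an
element of order 7 in `N_G(P) / C_G(P)` of order 3, and a member of `B₀(G)` irreducible on `N` of degree `≡ 1` modulo 7 but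
not modulo 49.  Then `l(B₀(G)) ≥ 7`.
-/

set_option autoImplicit false

open scoped ComplexConjugate

namespace Cfsg.Agent.H23.LB

open Cfsg Subgroup Cfsg.Agent.Characters.Core Cfsg.Agent.OddOrderCharacters.VChar Cfsg.Agent.H666.Clif

universe u

variable {G : Type u} [Group G] [Finite G]

/-- all the elements `≠ 1` of `P` conjugate to `x`, `χ(x) = 1` -/
theorem card_dvd_of_val_one (χ : IrrCharacter G) (P : Subgroup G) {x : G} (hP : ∀ g ∈ P, g ≠ 1 → IsConj x g)
    (hx : (χ : G → ℂ) x = 1) : (Nat.card P : ℤ) ∣ charDegree (χ : G → ℂ) - 1 := by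
  classical
  have := Fintype.ofFinite P
  have hg : IsGeneralizedCharacter P (fun t : P => (χ : G → ℂ) t) := gen_comp P.subtype (gen_of_irr χ.2)
  obtain ⟨n, hn⟩ := gen_inner hg (gen_one (G := P))
  have h1 : (Nat.card P : ℂ) ≠ 0 := by exact_mod_cast Nat.card_pos.ne'
  have h2 : ∑ t : P, (χ : G → ℂ) t = Nat.card P * n := by
    rw [classInner_def] at hn
    have h3 : ∑ t : P, (χ : G → ℂ) t * conj ((1 : P → ℂ) t) = ∑ t : P, (χ : G → ℂ) t := by
      refine Finset.sum_congr rfl fun t _ => ?_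
      rw [Pi.one_apply, map_one, mul_one]
    rw [h3] at hn
    rw [← hn, ← mul_assoc, mul_inv_cancel₀ h1, one_mul]
  have h4 : ∑ t : P, (χ : G → ℂ) t = charDegree (χ : G → ℂ) + ((Nat.card P - 1 : ℕ) : ℂ) := by
    rw [← Finset.add_sum_erase _ _ (Finset.mem_univ (1 : P)), Subgroup.coe_one, Blocks.Basic.irr_one_eq_charDegree χ.2,
      Finset.sum_congr rfl fun t ht => ?_, Finset.sum_const,
      Finset.card_erase_of_mem (Finset.mem_univ _), Finset.card_univ, ← Nat.card_eq_fintype_card, nsmul_eq_mul, mul_one]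
    obtain ⟨c, hc⟩ := isConj_iff.1 (hP t t.2 fun h => Finset.ne_of_mem_erase ht (Subtype.ext h))
    rw [← hc]
    exact (isIrr_isClassFunction χ.2 _ _).trans hx
  rw [h2] at h4
  have h5 : ((Nat.card P * n : ℤ) : ℂ) = ((charDegree (χ : G → ℂ) + ((Nat.card P - 1 : ℕ) : ℤ) : ℤ) : ℂ) := by
    push_cast
    exact h4
  have h6 : (Nat.card P * n : ℤ) = charDegree (χ : G → ℂ) + ((Nat.card P - 1 : ℕ) : ℤ) := by exact_mod_cast h5
  have h7 : (((Nat.card P - 1 : ℕ) : ℤ)) = (Nat.card P : ℤ) - 1 := by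
    have := Nat.card_pos (α := P)
    omega
  rw [h7] at h6
  exact ⟨n - 1, by linear_combination -h6⟩

/-- **Piece RatN** (helper17): the rationality of `x` inside `N`. -/
def RatN : Prop :=
  ∀ (G : Type u) [Group G] [Finite G], H741.Lb.OneC 7 G → ∀ P : Sylow 7 G, Nat.card P = 7 ^ 2 →
    (∀ x ∈ (P : Subgroup G), x ^ 7 = 1) → ∀ x : G, x ∈ (P : Subgroup G) → x ≠ 1 →
    (centralizer ((P : Subgroup G) : Set G)).relIndex
      (normalizer ((P : Subgroup G) : Set G) ⊓ centralizer ({x} : Set G)) = 3 →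
    ∀ (N : Subgroup G) [N.Normal], N.index = 2 → (∀ g ∉ N, ∀ n ∈ N, g * x * g⁻¹ ≠ n * x * n⁻¹) →
    ∀ k : ℕ, ¬ 7 ∣ k → ∃ n ∈ N, n * x * n⁻¹ = x ^ k

/-- **The abstract row.** -/
theorem le_rank {M : Ideal AlgInt} (hM : IsPModular 7 M) (ha : F2a.{u} M) (hb : F2b.{u}) (hr : RatN.{u})
    (hone : H741.Lb.OneC 7 G) (P : Sylow 7 G) (hP : Nat.card P = 7 ^ 2) (hel : ∀ x ∈ (P : Subgroup G), x ^ 7 = 1)
    {x : G} (hx : x ∈ (P : Subgroup G)) (hx1 : x ≠ 1)
    (hc : (centralizer ((P : Subgroup G) : Set G)).relIndex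
      (normalizer ((P : Subgroup G) : Set G) ⊓ centralizer ({x} : Set G)) = 3)
    (N : Subgroup G) [N.Normal] (hN : N.index = 2)
    (hcl : ∀ g ∉ N, ∀ n ∈ N, g * x * g⁻¹ ≠ n * x * n⁻¹)
    (χ : IrrCharacter G) (hχ : χ ∈ principalBlock M G) (θ : IrrCharacter N)
    (hθ : ∀ n : N, (χ : G → ℂ) n = (θ : N → ℂ) n)
    (hd : (7 : ℤ) ∣ (charDegree (χ : G → ℂ) : ℤ) - 1) (hd' : ¬ (49 : ℤ) ∣ (charDegree (χ : G → ℂ) : ℤ) - 1) :
    7 ≤ blockRank 7 (principalBlock M G) := by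
  classical
  have : Fact (Nat.Prime 7) := ⟨by norm_num⟩
  have hMp : M.IsPrime := hM.2.1.isPrime
  have hxo : orderOf x = 7 := orderOf_eq_prime (hel x hx) hx1
  have hord : ∀ g ∈ (P : Subgroup G), g ≠ 1 → orderOf g = 7 := fun g hg hg1 => orderOf_eq_prime (hel g hg) hg1
  have hconj : ∀ g ∈ (P : Subgroup G), g ≠ 1 → IsConj x g := fun g hg hg1 =>
    hone x g hx1 hg1 ⟨1, by rw [hxo, pow_one]⟩ ⟨1, by rw [hord g hg hg1, pow_one]⟩
  have hrat := hr G hone P hP hel x hx hx1 hc N hN hcl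
  obtain ⟨s₀, hs₀⟩ : ∃ s₀ : G, s₀ ∉ N := by
    by_contra hcon
    push Not at hcon
    rw [(Subgroup.eq_top_iff' N).2 hcon, Subgroup.index_top] at hN
    omega
  obtain ⟨qN, hD, h1, h2⟩ := ha G P hP hel x hx hx1 hc N hN hrat hcl s₀ hs₀
  -- the trivial character
  let χ₁ : IrrCharacter G := ⟨fun _ => 1, Blocks.Basic.isIrrCharacter_one⟩
  let θ₁ : IrrCharacter N := ⟨fun _ => 1, Blocks.Basic.isIrrCharacter_one⟩
  have hχ₁ : χ₁ ∈ principalBlock M G := Blocks.PrincipalSection.one_mem_principalBlock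
  have hne : θ ≠ θ₁ := by
    intro h
    apply hd'
    have h3 : (χ : G → ℂ) 1 = 1 := by
      have := hθ 1
      rw [Subgroup.coe_one] at this
      rw [this, h]
    rw [Blocks.Basic.irr_one_eq_charDegree χ.2] at h3
    have h4 : charDegree (χ : G → ℂ) = 1 := by exact_mod_cast h3
    rw [h4]
    norm_num
  obtain ⟨ι, κ, _, _, q, s, d, a, b, hG, hDD, hpar, hS, hab, hqa, hqb, hcard⟩ :=
    hb G N hN s₀ hs₀ _ _ qN hD χ₁ χ θ₁ θ hχ₁ hχ (fun _ => rfl) hθ hne
  have hθB : θ ∈ principalBlock M N := (hD.cover χ θ (H855.LB.ov_of_restrict N hθ)).1 hχ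
  have hdeg : charDegree (θ : N → ℂ) = charDegree (χ : G → ℂ) := by
    have h3 : (χ : G → ℂ) 1 = (θ : N → ℂ) 1 := by
      have := hθ 1
      rwa [Subgroup.coe_one] at this
    rw [Blocks.Basic.irr_one_eq_charDegree χ.2, Blocks.Basic.irr_one_eq_charDegree θ.2] at h3
    exact_mod_cast h3.symm
  have h10 : 10 ≤ 2 * Fintype.card ι + Fintype.card κ := by
    refine H17.LB.f4_int_one q s d hG hDD hpar hS hab (fun i => ?_) ?_ ?_
    · rw [hqa, h1 θ₁ rfl]
    · rw [hqb]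
      have h3 := hD.cong θ hθB
      rw [hdeg] at h3
      have h4 : qN θ 0 + qN θ 1 + qN θ 2 - 1 = (qN θ 0 + qN θ 1 + qN θ 2 - (charDegree (χ : G → ℂ) : ℤ)) +
          ((charDegree (χ : G → ℂ) : ℤ) - 1) := by ring
      rw [h4]
      exact dvd_add h3 hd
    · intro h
      rw [hqb] at h
      have hxN : x ∈ N := by
        -- an element of odd order
        have h3 : (QuotientGroup.mk' N x) ^ 7 = 1 := by rw [← map_pow, hel x hx, map_one]
        have h4 : (QuotientGroup.mk' N x) ^ 2 = 1 := by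
          rw [← hN, Subgroup.index, pow_card_eq_one']
        have h5 : QuotientGroup.mk' N x = 1 := by
          have h6 : (QuotientGroup.mk' N x) ^ 7 = ((QuotientGroup.mk' N x) ^ 2) ^ 3 * QuotientGroup.mk' N x := by
            rw [← pow_mul, ← pow_succ]
          rw [h4, one_pow, one_mul] at h6
          rw [← h6, h3]
        exact (QuotientGroup.eq_one_iff x).1 h5
      have h3 : (χ : G → ℂ) x = 1 := (hθ ⟨x, hxN⟩).trans (h2 θ hθB h ⟨x, hxN⟩ rfl)
      have h4 := card_dvd_of_val_one χ (P : Subgroup G) hconj h3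
      have h5 : (Nat.card (P : Subgroup G) : ℤ) = 49 := by
        have : Nat.card (P : Subgroup G) = 7 ^ 2 := hP
        rw [this]
        norm_num
      rw [h5] at h4
      exact hd' h4
  rw [← hcard] at h10
  have hC : H634.Fus.OneClass 7 G := fun x y hx hx1 hy hy1 => hone x y hx1 hy1 hx hy
  have h6 := H723.LbC.card_eq_of_oneClass hM hC ⟨1, by rw [hxo, pow_one]⟩ hx1
  rw [H963.OneP.RankEq.rank_eq hM (by norm_num) P hP hel hx hx1, hc] at h6
  omega

end Cfsg.Agent.H23.LB
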