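import Cfsg.Agent.H23.LB.RowF4
import Cfsg.Agent.H17.LB.PieceB
import Cfsg.Agent.H17.LB.RatN
import Cfsg.Agent.H283.LB.F2a
import Cfsg.Agent.H530.LB.Three
import Cfsg.Agent.H137.LB.NoSix
import Cfsg.Agent.H408.LB.FTyp
import Cfsg.Agent.H855.LB.St

/-!
# S4879, the row `F₄(q)`, `p = 7` (helper23; pieces of helper283, 17, 530, 137, 408, 743, 25, 855)

`row_F4 : H741.Lb.Row 7 M (fun S _ => H741.Lb.QF4 S)` with `QF4` unfolded.
-/

set_option autoImplicit false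

namespace Cfsg.Agent.H23.LB

open Cfsg

universe u

theorem f3 : F3.{u} := fun _ _ _ hO P hP hel hL _ hx hx1 =>
  H530.LB.relIndex_three (fun _ _ _ hV h7 E hE h => H137.LB.no_six hV h7 E hE h) hO P hP hel hL hx hx1

theorem ratN : RatN.{u} := fun _ _ _ h1 P hP hel _ hx hx1 h3 N _ hN hcl =>
  H17.LB.rat_N h1 P hP hel hx hx1 h3 N hN hcl

theorem f4 : F4 := fun _ _ _ h => H408.LB.f4_typ h

theorem f5 {M : Ideal AlgInt} (hM : IsPModular 7 M) : F5.{u} M := by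
  intro G _ _ T _ _ hT F _ _ e ho
  have : Fact (Nat.Prime 7) := ⟨by norm_num⟩
  obtain ⟨χ, h1, h2, h3, -⟩ := H855.LB.st_F4_seven ho hM T hT e
  exact ⟨χ, h1, h2, h3⟩

/-- **The row `F₄(q)`, `p = 7`.** -/
theorem row_F4 {M : Ideal AlgInt} (hM : IsPModular 7 M) :
    H741.Lb.Row.{u} 7 M (fun S _ =>
      ∃ (F : Type) (_ : Field F) (_ : Fintype F), Nonempty (S ≃* ↥(Lie.chevF4.group F)) ∧
      (orderOf ((Fintype.card F : ℕ) : ZMod 7) = 3 ∨ orderOf ((Fintype.card F : ℕ) : ZMod 7) = 6)) :=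
  row_of hM (H283.LB.f2a hM) H17.LB.f2b ratN f3 f4 (f5 hM)

end Cfsg.Agent.H23.LB
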