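import Cfsg.Agent.H23.LB.Abs
import Cfsg.Agent.H210.EL.Data
import Cfsg.Agent.S1062

/-!
# S4879, the row `F₄(q)`, `p = 7` (helper23)

`row_of` : the row from the pieces F2a, F2b, F3, F4, F5.
-/

set_option autoImplicit false

namespace Cfsg.Agent.H23.LB

open Cfsg Subgroup Cfsg.Agent.Characters.Core Cfsg.Agent.H319.One Cfsg.Lie

universe u

/-- **Piece F3**: one class and `Loc 7 3`: the stabilizer in `N(P)/C(P)` has order 3. -/
def F3 : Prop :=
  ∀ (G : Type u) [Group G] [Finite G], H741.Lb.OneC 7 G → ∀ P : Sylow 7 G, Nat.card P = 7 ^ 2 →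
    (∀ x ∈ (P : Subgroup G), x ^ 7 = 1) → Loc 7 3 G → ∀ x ∈ (P : Subgroup G), x ≠ 1 →
    (centralizer ((P : Subgroup G) : Set G)).relIndex
      (normalizer ((P : Subgroup G) : Set G) ⊓ centralizer ({x} : Set G)) = 3

/-- **Piece F4**: the type preserving automorphisms of `F₄(q)` have two classes of elements of order 7. -/
def F4 : Prop :=
  ∀ (K : Type) [Field K] [Fintype K],
    (orderOf ((Fintype.card K : ℕ) : ZMod 7) = 3 ∨ orderOf ((Fintype.card K : ℕ) : ZMod 7) = 6) →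
    ∃ H : Subgroup (MulAut ↥(chevF4.group K)), (∀ s, MulAut.conj s ∈ H) ∧ (H.index = 1 ∨ H.index = 2) ∧
      ∃ x y : ↥(chevF4.group K), orderOf x = 7 ∧ orderOf y = 7 ∧ ∀ φ ∈ H, φ x ≠ y

/-- **Piece F5**: the Steinberg character. -/
def F5 (M : Ideal AlgInt) : Prop :=
  ∀ (G : Type u) [Group G] [Finite G] (T : Subgroup G) [T.Normal],
    (∀ g : G, (∀ t ∈ T, Commute g t) → g = 1) → (∀ x : G, (∃ k : ℕ, orderOf x = 7 ^ k) → x ∈ T) →
    ∀ (F : Type) [Field F] [Fintype F], ↥T ≃* ↥(chevF4.group F) →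
    (orderOf ((Fintype.card F : ℕ) : ZMod 7) = 3 ∨ orderOf ((Fintype.card F : ℕ) : ZMod 7) = 6) →
    ∃ χ ∈ principalBlock M G, charDegree (χ : G → ℂ) = Fintype.card F ^ 24 ∧
      IsIrrCharacter T (fun t : T => (χ : G → ℂ) t)

/-- a character irreducible on a smaller subgroup is irreducible on the larger one -/
theorem isIrr_of_le {G : Type u} [Group G] [Finite G] {T N : Subgroup G} (hTN : T ≤ N) {χ : G → ℂ}
    (hχ : IsIrrCharacter G χ) (hT : IsIrrCharacter T (fun t : T => χ t)) : IsIrrCharacter N (fun n : N => χ n) := by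
  obtain ⟨m, ρ, -, rfl⟩ := hχ
  let ρT : Representation ℂ T (Fin m → ℂ) := ρ.comp T.subtype
  let ρN : Representation ℂ N (Fin m → ℂ) := ρ.comp N.subtype
  have h1 : ρT.IsIrreducible := (isIrreducible_iff_isIrrCharacter ρT).2 hT
  have h2 : ρN.IsIrreducible := by
    have hne : (⊥ : Submodule ℂ (Fin m → ℂ)) ≠ ⊤ := by
      intro h
      obtain ⟨a, b, hab⟩ := h1.exists_pair_ne
      apply hab
      have h3 : ∀ c d : Submodule ℂ (Fin m → ℂ), c = d := fun c d => by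
        have e1 : c = ⊥ := le_bot_iff.1 (h ▸ le_top)
        have e2 : d = ⊥ := le_bot_iff.1 (h ▸ le_top)
        rw [e1, e2]
      cases a
      cases b
      congr 1
      exact h3 _ _
    refine { exists_pair_ne := ⟨⊥, ⊤, fun h => hne ?_⟩, eq_bot_or_eq_top := fun c => ?_ }
    · exact congrArg Subrepresentation.toSubmodule h
    · rcases h1.eq_bot_or_eq_top (⟨c.toSubmodule, fun t v hv => c.apply_mem_toSubmodule (⟨t, hTN t.2⟩ : N) hv⟩ :
        Subrepresentation ρT) with h | h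
      · left
        have h3 := congrArg Subrepresentation.toSubmodule h
        cases c
        congr 1
      · right
        have h3 := congrArg Subrepresentation.toSubmodule h
        cases c
        congr 1
  exact (isIrreducible_iff_isIrrCharacter ρN).1 h2

/-- `7 ∣ q²⁴ - 1`, and `49 ∣ q²⁴ - 1` implies `7⁴ ∣ |F₄(q)|` -/
theorem num {q : ℕ} (h : orderOf (q : ZMod 7) = 3 ∨ orderOf (q : ZMod 7) = 6) :
    (7 : ℤ) ∣ ((q ^ 24 : ℕ) : ℤ) - 1 ∧ ((49 : ℤ) ∣ ((q ^ 24 : ℕ) : ℤ) - 1 → 7 ^ 4 ∣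
      q ^ 24 * (q ^ 2 - 1) * (q ^ 6 - 1) * (q ^ 8 - 1) * (q ^ 12 - 1)) := by
  have h6 : (q : ZMod 7) ^ 6 = 1 := by
    have h1 : orderOf (q : ZMod 7) ∣ 6 := by
      rcases h with h | h <;> rw [h]
      exact ⟨2, rfl⟩
    exact orderOf_dvd_iff_pow_eq_one.1 h1
  have hq : 1 ≤ q := by
    rcases Nat.eq_zero_or_pos q with h0 | h0
    · subst h0
      exact absurd h6 (by decide)
    · exact h0
  have h7 : (7 : ℤ) ∣ (q : ℤ) ^ 6 - 1 := by
    have := (ZMod.intCast_zmod_eq_zero_iff_dvd ((q : ℤ) ^ 6 - 1) 7).1 (by push_cast; rw [h6, sub_self])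
    exact_mod_cast this
  refine ⟨?_, fun h49 => ?_⟩
  · have e : ((q ^ 24 : ℕ) : ℤ) - 1 = ((q : ℤ) ^ 6 - 1) * (1 + (q : ℤ) ^ 6 + (q : ℤ) ^ 12 + (q : ℤ) ^ 18) := by
      push_cast; ring
    rw [e]
    exact dvd_mul_of_dvd_left h7 _
  · have e : ((q ^ 24 : ℕ) : ℤ) - 1 = ((q : ℤ) ^ 6 - 1) * (1 + (q : ℤ) ^ 6 + (q : ℤ) ^ 12 + (q : ℤ) ^ 18) := by
      push_cast; ring
    rw [e] at h49
    have h4 : IsCoprime (49 : ℤ) (1 + (q : ℤ) ^ 6 + (q : ℤ) ^ 12 + (q : ℤ) ^ 18) := by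
      have h5 : (1 + (q : ℤ) ^ 6 + (q : ℤ) ^ 12 + (q : ℤ) ^ 18) =
          4 + ((q : ℤ) ^ 6 - 1) * (3 + 2 * (q : ℤ) ^ 6 + (q : ℤ) ^ 12) := by ring
      obtain ⟨c, hc⟩ := h7
      rw [h5, hc, show (49 : ℤ) = 7 ^ 2 by norm_num]
      refine IsCoprime.pow_left ?_
      refine ⟨-1 - 2 * (c * (3 + 2 * (q : ℤ) ^ 6 + (q : ℤ) ^ 12)), 2, ?_⟩
      ring
    have h8 : (49 : ℤ) ∣ (q : ℤ) ^ 6 - 1 := h4.dvd_of_dvd_mul_right h49
    have h9 : 49 ∣ q ^ 6 - 1 := by
      have e1 : ((q ^ 6 - 1 : ℕ) : ℤ) = (q : ℤ) ^ 6 - 1 := by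
        rw [Nat.cast_sub (Nat.one_le_pow _ _ hq)]
        push_cast
        rfl
      have e2 : ((49 : ℕ) : ℤ) ∣ ((q ^ 6 - 1 : ℕ) : ℤ) := by rw [e1]; exact h8
      exact Int.natCast_dvd_natCast.1 e2
    have h10 : 49 ∣ q ^ 12 - 1 := by
      have e1 : q ^ 12 - 1 = (q ^ 6 - 1) * (q ^ 6 + 1) := by
        have e2 : q ^ 12 = q ^ 6 * q ^ 6 := by rw [← pow_add]
        have e3 : 1 ≤ q ^ 6 := Nat.one_le_pow _ _ hq
        rw [e2]
        obtain ⟨m, hm⟩ := Nat.exists_eq_add_of_le e3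
        rw [hm, Nat.add_sub_cancel_left]
        have e4 : (1 + m) * (1 + m) - 1 = m * (1 + m + 1) := by
          have : (1 + m) * (1 + m) = m * (1 + m + 1) + 1 := by ring
          omega
        exact e4
      rw [e1]
      exact dvd_mul_of_dvd_left h9 _
    have h11 : 49 * 49 ∣ (q ^ 6 - 1) * (q ^ 12 - 1) := mul_dvd_mul h9 h10
    have e : q ^ 24 * (q ^ 2 - 1) * (q ^ 6 - 1) * (q ^ 8 - 1) * (q ^ 12 - 1) =
        (q ^ 6 - 1) * (q ^ 12 - 1) * (q ^ 24 * (q ^ 2 - 1) * (q ^ 8 - 1)) := by ring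
    rw [e]
    exact dvd_mul_of_dvd_left (by rw [show 7 ^ 4 = 49 * 49 by norm_num]; exact h11) _

/-- **The row `F₄(q)`, `p = 7`, from the pieces.** -/
theorem row_of {M : Ideal AlgInt} (hM : IsPModular 7 M) (ha : F2a.{u} M) (hb : F2b.{u}) (hr : RatN.{u}) (h3 : F3.{u}) (h4 : F4)
    (h5 : F5.{u} M) : H741.Lb.Row.{u} 7 M (fun S _ =>
      ∃ (F : Type) (_ : Field F) (_ : Fintype F), Nonempty (S ≃* ↥(Lie.chevF4.group F)) ∧
      (orderOf ((Fintype.card F : ℕ) : ZMod 7) = 3 ∨ orderOf ((Fintype.card F : ℕ) : ZMod 7) = 6)) := by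
  classical
  intro G _ _ T _ hC hTp hone hPc ⟨F, _, _, ⟨e⟩, hord⟩
  have : Fact (Nat.Prime 7) := ⟨by norm_num⟩
  obtain ⟨H, hHc, hHi, a, b, ha7, hb7, hab⟩ := h4 F hord
  -- the action on `F₄(q)`
  let ψ : G →* MulAut ↥(chevF4.group F) := (MulAut.congr e).toMonoidHom.comp MulAut.conjNormal
  have hψ : ∀ g t, ψ g (e t) = e (MulAut.conjNormal g t) := fun g t => by
    show (MulAut.congr e (MulAut.conjNormal g)) (e t) = _
    show e (MulAut.conjNormal g (e.symm (e t))) = _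
    rw [e.symm_apply_apply]
  set N := H.comap ψ with hNdef
  let x : G := ((e.symm a : T) : G)
  let y : G := ((e.symm b : T) : G)
  have hxo : orderOf x = 7 := by
    show orderOf ((e.symm a : T) : G) = 7
    rw [Subgroup.orderOf_coe, e.symm.orderOf_eq, ha7]
  have hyo : orderOf y = 7 := by
    show orderOf ((e.symm b : T) : G) = 7
    rw [Subgroup.orderOf_coe, e.symm.orderOf_eq, hb7]
  have hxy : ∀ g ∈ N, g * x * g⁻¹ ≠ y := by
    intro g hg h
    refine hab (ψ g) hg ?_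
    have h1 : MulAut.conjNormal g (e.symm a) = e.symm b := Subtype.ext (by rw [MulAut.conjNormal_apply]; exact h)
    have h2 := hψ g (e.symm a)
    rw [h1, e.apply_symm_apply, e.apply_symm_apply] at h2
    exact h2
  have hx1 : x ≠ 1 := fun h => by rw [h, orderOf_one] at hxo; omega
  have hy1 : y ≠ 1 := fun h => by rw [h, orderOf_one] at hyo; omega
  obtain ⟨g₀, hg₀⟩ := isConj_iff.1 (hone x y hx1 hy1 ⟨1, by rw [hxo, pow_one]⟩ ⟨1, by rw [hyo, pow_one]⟩)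
  have hg₀N : g₀ ∉ N := fun h => hxy g₀ h hg₀
  have hNi : N.index = 2 := by
    have h1 : N.index ≤ 2 := by
      rw [hNdef, Subgroup.index_comap]
      have h1 : H.relIndex ψ.range ≤ H.relIndex ⊤ := Subgroup.relIndex_le_of_le_right le_top (by
        rw [Subgroup.relIndex_top_right]
        rcases hHi with h | h <;> rw [h] <;> norm_num)
      rw [Subgroup.relIndex_top_right] at h1
      rcases hHi with h | h <;> omega
    have h2 : N.index ≠ 0 := Subgroup.index_ne_zero_of_finite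
    have h3 : N.index ≠ 1 := fun h => hg₀N (by rw [Subgroup.index_eq_one.1 h]; exact Subgroup.mem_top _)
    omega
  have hNn : N.Normal := Subgroup.normal_of_index_eq_two hNi
  have hcl : ∀ g ∉ N, ∀ n ∈ N, g * x * g⁻¹ ≠ n * x * n⁻¹ := by
    intro g hg n hn h
    have hc : n⁻¹ * g ∉ N := fun h1 => hg (by
      have := mul_mem hn h1
      rwa [mul_inv_cancel_left] at this)
    have h1 : g₀ * (n⁻¹ * g) ∈ N :=
      (Subgroup.mul_mem_iff_of_index_two hNi).2 ⟨fun h => absurd h hg₀N, fun h => absurd h hc⟩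
    refine hxy _ h1 ?_
    rw [← hg₀]
    have h2 : (n⁻¹ * g) * x * (n⁻¹ * g)⁻¹ = x := by
      have : (n⁻¹ * g) * x * (n⁻¹ * g)⁻¹ = n⁻¹ * (g * x * g⁻¹) * n := by group
      rw [this, h]
      group
    calc g₀ * (n⁻¹ * g) * x * (g₀ * (n⁻¹ * g))⁻¹ = g₀ * ((n⁻¹ * g) * x * (n⁻¹ * g)⁻¹) * g₀⁻¹ := by group
      _ = g₀ * x * g₀⁻¹ := by rw [h2]
  have hTN : T ≤ N := by
    intro t ht
    show ψ t ∈ H
    have h1 : ψ t = MulAut.conj (e ⟨t, ht⟩) := by
      ext s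
      obtain ⟨s', rfl⟩ := e.surjective s
      rw [hψ, MulAut.conj_apply, ← map_inv, ← map_mul, ← map_mul]
      congr 2
    rw [h1]
    exact hHc _
  -- the Sylow subgroup
  obtain ⟨P, hxP⟩ : ∃ P : Sylow 7 G, x ∈ (P : Subgroup G) := by
    have h1 : IsPGroup 7 (Subgroup.zpowers x) := IsPGroup.of_card (n := 1) (by rw [Nat.card_zpowers, hxo, pow_one])
    obtain ⟨P, hP⟩ := h1.exists_le_sylow
    exact ⟨P, hP (Subgroup.mem_zpowers x)⟩
  have hP := hPc P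
  have hel : ∀ z ∈ (P : Subgroup G), z ^ 7 = 1 := by
    intro z hz
    by_cases hz1 : z = 1
    · rw [hz1, one_pow]
    · have h1 : ∃ k : ℕ, orderOf z = 7 ^ k := by
        obtain ⟨k, hk⟩ := (IsPGroup.iff_orderOf.1 P.isPGroup') ⟨z, hz⟩
        exact ⟨k, by rw [← hk, Subgroup.orderOf_mk]⟩
      obtain ⟨g, hg⟩ := isConj_iff.1 (hone z x hz1 hx1 h1 ⟨1, by rw [hxo, pow_one]⟩)
      have h2 : orderOf z = 7 := by
        rw [← hxo, ← hg]
        exact (MulAut.conj g).orderOf_eq z |>.symm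
      rw [← h2]
      exact pow_orderOf_eq_one z
  -- `Loc 7 3 G`
  have hloc : Loc 7 3 G := by
    obtain ⟨u, v, c, k, hu, hv, huv, hn, hc, hk, he⟩ := (H210.EL.loc_f4 hord).congr e.symm
    refine ⟨u, v, c, k, by rw [Subgroup.orderOf_coe, hu], by rw [Subgroup.orderOf_coe, hv],
      congrArg Subtype.val huv, ?_, congrArg Subtype.val hc, congrArg Subtype.val hk, he⟩
    rintro ⟨m, hm⟩
    exact hn ⟨m, Subtype.ext (by simpa using hm)⟩
  have h3' := h3 G hone P hP hel hloc x hxP hx1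
  obtain ⟨χ, hχ, hdeg, hirr⟩ := h5 G T hC hTp F e hord
  have hnum := num hord
  refine le_rank hM ha hb hr hone P hP hel hxP hx1 h3' N hNi hcl χ hχ ⟨_, isIrr_of_le hTN χ.2 hirr⟩ (fun n => rfl)
    (by rw [hdeg]; exact hnum.1) fun h49 => ?_
  rw [hdeg] at h49
  have h6 := hnum.2 h49
  rw [← Cfsg.Agent.S1062.result rfl, ← Nat.card_congr e.toEquiv] at h6
  have h7 : 7 ^ 4 ∣ Nat.card G := h6.trans (Subgroup.card_subgroup_dvd_card T)
  have h8 : 7 ^ 4 ∣ Nat.card P := P.pow_dvd_card_of_pow_dvd_card h7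
  rw [hP] at h8
  have := Nat.le_of_dvd (by norm_num) h8
  omega

end Cfsg.Agent.H23.LB
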